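import Mathlib

set_option autoImplicit false
set_option linter.style.haveILetI false
universe u v w

namespace Groth.Agent.ProCompl8

theorem finite_torsionBy_of_monolith {A : Type u} [AddCommGroup A] {a : A} (ha : a ≠ 0)
    (h : ∀ B : AddSubgroup A, B ≠ ⊥ → a ∈ B) {p : ℕ} (hp : p.Prime) : {x : A | p • x = 0}.Finite := by
  classical
  by_cases hall : ∀ x : A, p • x = 0 → x = 0
  · exact (Set.finite_singleton 0).subset fun x hx => hall x hx
  push Not at hall
  obtain ⟨y, hy, hy0⟩ := hall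
  have hy' : IsOfFinAddOrder y := isOfFinAddOrder_iff_nsmul_eq_zero.mpr ⟨p, hp.pos, hy⟩
  haveI : Fact p.Prime := ⟨hp⟩
  have hfin : ((AddSubgroup.zmultiples y : AddSubgroup A) : Set A).Finite := by
    haveI : Finite (AddSubgroup.zmultiples y) := Nat.finite_of_card_ne_zero (by
      rw [Nat.card_zmultiples, addOrderOf_eq_prime hy hy0]; exact hp.ne_zero)
    exact Set.toFinite _
  refine hfin.subset fun x (hx : p • x = 0) => ?_
  by_cases hx0 : x = 0
  · simp [hx0]
  have hay : a ∈ AddSubgroup.zmultiples y := h _ (by simpa [AddSubgroup.zmultiples_eq_bot] using hy0)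
  have hax : a ∈ AddSubgroup.zmultiples x := h _ (by simpa [AddSubgroup.zmultiples_eq_bot] using hx0)
  obtain ⟨j, hj : j • x = a⟩ := hax
  have hjp : ¬ (p : ℤ) ∣ j := fun ⟨c, hc⟩ => ha <| by
    rw [← hj, hc, mul_comm, mul_smul, natCast_zsmul, hx, smul_zero]
  obtain ⟨s, t, hst⟩ := (Int.prime_iff_natAbs_prime.mpr (by simpa using hp) : Prime (p : ℤ)).coprime_iff_not_dvd.mpr hjp
  have hxy : x = t • a := by
    calc x = (s * (p : ℤ) + t * j) • x := by rw [hst, one_smul]
      _ = t • a := by rw [add_smul, mul_smul, mul_smul, natCast_zsmul, hx, smul_zero, zero_add, hj]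
  exact hxy ▸ AddSubgroup.zsmul_mem _ hay t

/-- S13362 -/
theorem finite_of_monolith {A : Type u} [AddCommGroup A] (hA : AddMonoid.exponent A ≠ 0) (a : A) (ha : a ≠ 0)
    (h : ∀ B : AddSubgroup A, B ≠ ⊥ → a ∈ B) : Finite A := by
  suffices ∀ n : ℕ, n ≠ 0 → {x : A | n • x = 0}.Finite by
    have h1 := this _ hA
    rw [show {x : A | AddMonoid.exponent A • x = 0} = Set.univ from Set.eq_univ_of_forall AddMonoid.exponent_nsmul_eq_zero] at h1
    exact Set.finite_univ_iff.mp h1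
  intro n
  induction n using Nat.recOnMul with
  | zero => exact fun h0 => absurd rfl h0
  | one => exact fun _ => (Set.finite_singleton 0).subset fun x (hx : (1 : ℕ) • x = 0) => by simpa using hx
  | prime p hp => exact fun _ => finite_torsionBy_of_monolith ha h hp
  | mul m n hm hn =>
    intro hmn
    have hm' := hm (left_ne_zero_of_mul hmn)
    have hn' := hn (right_ne_zero_of_mul hmn)
    refine Set.Finite.of_finite_fibers (fun x : A => m • x) (hn'.subset ?_) fun b _ => ?_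
    · rintro _ ⟨x, hx : (m * n) • x = 0, rfl⟩
      show n • m • x = 0
      rwa [← mul_smul, mul_comm]
    · rcases Set.eq_empty_or_nonempty ({x : A | (m * n) • x = 0} ∩ (fun x : A => m • x) ⁻¹' {b}) with he | ⟨x₀, -, hx₀⟩
      · rw [he]; exact Set.finite_empty
      · refine (hm'.image (x₀ + ·)).subset ?_
        rintro x ⟨-, hx⟩
        refine ⟨x - x₀, ?_, add_sub_cancel _ _⟩
        show m • (x - x₀) = 0
        simp only [Set.mem_preimage, Set.mem_singleton_iff] at hx hx₀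
        rw [smul_sub, hx, hx₀, sub_self]

/-- S13361 -/
theorem cyclic_of_monolith {A : Type u} [AddCommGroup A] [Finite A] (a : A) (ha : a ≠ 0)
    (h : ∀ B : AddSubgroup A, B ≠ ⊥ → a ∈ B) : ∃ p n : ℕ, p.Prime ∧ Nonempty (A ≃+ ZMod (p ^ n)) := by
  classical
  obtain ⟨ι, hι, p, hp, e, ⟨f⟩⟩ := AddCommGroup.equiv_directSum_zmod_of_finite A
  haveI := hι
  let g : A ≃+ ((i : ι) → ZMod (p i ^ e i)) := f.trans (DirectSum.addEquivProd _)
  have hga : g a ≠ 0 := fun h0 => ha (g.injective (by rw [h0, map_zero]))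
  obtain ⟨i, hi⟩ : ∃ i, g a i ≠ 0 := not_forall.mp fun h0 => hga (funext h0)
  have hsub : ∀ j, j ≠ i → ∀ y : ZMod (p j ^ e j), y = 0 := fun j hji y => by
    by_contra hy
    have hB := h (AddSubgroup.zmultiples (g.symm (Pi.single j y))) (by
      simpa [AddSubgroup.zmultiples_eq_bot, Pi.single_eq_zero_iff] using hy)
    obtain ⟨c, hc : c • g.symm (Pi.single j y) = a⟩ := hB
    have h1 := congrArg (fun z => g z i) hc
    simp [Pi.single_eq_of_ne hji.symm] at h1
    exact hi h1.symm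
  refine ⟨p i, e i, hp i, ⟨g.trans
    { toFun := fun z => z i
      invFun := fun y => Pi.single i y
      left_inv := fun z => funext fun j => ?_
      right_inv := fun y => by simp
      map_add' := fun _ _ => rfl }⟩⟩
  by_cases hj : j = i
  · subst hj; exact Pi.single_eq_same _ _
  · rw [hsub j hj (z j)]; exact Pi.single_eq_of_ne hj _

/-- A subgroup of finite index omitting a given non-multiple of `n`. -/
theorem exists_finiteIndex_not_mem {A : Type u} [AddCommGroup A] {a : A} {n : ℕ} (hn : 0 < n)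
    (ha : ∀ b : A, n • b ≠ a) : ∃ B : AddSubgroup A, (∀ b : A, n • b ∈ B) ∧ B.FiniteIndex ∧ a ∉ B := by
  let C : AddSubgroup A := (nsmulAddMonoidHom n).range
  have haC : a ∉ C := fun ⟨b, hb⟩ => ha b hb
  obtain ⟨B, hCB, hB⟩ := zorn_le_nonempty₀ {B : AddSubgroup A | C ≤ B ∧ a ∉ B} (fun c hc hch B₀ hB₀ => by
    refine ⟨sSup c, ⟨(hc hB₀).1.trans (le_sSup hB₀), fun hmem => ?_⟩, fun B hB => le_sSup hB⟩
    obtain ⟨B, hBc, haB⟩ := (AddSubgroup.mem_sSup_of_directedOn ⟨B₀, hB₀⟩ hch.directedOn).mp hmem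
    exact (hc hBc).2 haB) C ⟨le_rfl, haC⟩
  refine ⟨B, fun b => hCB ⟨b, rfl⟩, ?_, hB.prop.2⟩
  haveI : Finite (A ⧸ B) := by
    refine finite_of_monolith (a := (a : A ⧸ B)) ?_ ?_ fun D hD => ?_
    · refine fun h0 => hn.ne' (Nat.eq_zero_of_zero_dvd (h0 ▸ AddMonoid.exponent_dvd_of_forall_nsmul_eq_zero ?_))
      intro x
      obtain ⟨b, rfl⟩ := QuotientAddGroup.mk_surjective x
      exact (QuotientAddGroup.eq_zero_iff _).mpr (hCB ⟨b, rfl⟩)
    · exact fun h0 => hB.prop.2 ((QuotientAddGroup.eq_zero_iff _).mp h0)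
    · by_contra hmem
      refine hD ?_
      have hle : B ≤ D.comap (QuotientAddGroup.mk' B) := fun x hx => by
        show (x : A ⧸ B) ∈ D
        rw [(QuotientAddGroup.eq_zero_iff x).mpr hx]; exact D.zero_mem
      have heq := hB.eq_of_le ⟨hB.prop.1.trans hle, hmem⟩ hle
      refine eq_bot_iff.mpr fun y hy => ?_
      obtain ⟨x, rfl⟩ := QuotientAddGroup.mk_surjective y
      exact (QuotientAddGroup.eq_zero_iff x).mpr (heq.symm ▸ (show x ∈ D.comap (QuotientAddGroup.mk' B) from hy))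
  exact AddSubgroup.finiteIndex_of_finite_quotient

theorem exists_finiteIndex_iff {A : Type u} [AddCommGroup A] (a : A) :
    (∃ B : AddSubgroup A, B.FiniteIndex ∧ a ∉ B) ↔ ¬ (∀ n : ℕ, 0 < n → ∃ b : A, n • b = a) := by
  constructor
  · rintro ⟨B, hB, ha⟩ hdiv
    obtain ⟨b, hb⟩ := hdiv B.index (Nat.pos_of_ne_zero hB.index_ne_zero)
    refine ha (hb ▸ ?_)
    haveI := hB
    haveI : Finite (A ⧸ B) := AddSubgroup.finite_quotient_of_finiteIndex
    rw [← QuotientAddGroup.eq_zero_iff, QuotientAddGroup.mk_nsmul, AddSubgroup.index_eq_card]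
    exact card_nsmul_eq_zero'
  · intro h
    push Not at h
    obtain ⟨n, hn, hb⟩ := h
    obtain ⟨B, -, hB, ha⟩ := exists_finiteIndex_not_mem hn hb
    exact ⟨B, hB, ha⟩

/-- S13364 -/
theorem divisible_eq_zero {A' : Type u} {A : Type v} {A'' : Type w} [AddCommGroup A'] [AddCommGroup A]
    [AddCommGroup A''] (f : A' →+ A) (g : A →+ A'') (hf : Function.Injective f)
    (hfg : g.ker = f.range)
    (h' : ∀ x : A', (∀ n : ℕ, 0 < n → ∃ y : A', n • y = x) → x = 0)
    (h'' : ∀ x : A'', (∀ n : ℕ, 0 < n → ∃ y : A'', n • y = x) → x = 0)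
    (htors : ∃ N : ℕ, 0 < N ∧ ∀ x : A'', IsOfFinAddOrder x → N • x = 0)
    (x : A) (hx : ∀ n : ℕ, 0 < n → ∃ y : A, n • y = x) : x = 0 := by
  obtain ⟨N, hN, htors⟩ := htors
  have hgx : x ∈ g.ker := AddMonoidHom.mem_ker.mpr <| h'' _ fun n hn => by
    obtain ⟨y, rfl⟩ := hx n hn
    exact ⟨g y, (map_nsmul g n y).symm⟩
  rw [hfg] at hgx
  obtain ⟨x', rfl⟩ := hgx
  refine (map_eq_zero_iff f hf).mpr (h' x' fun n hn => ?_)
  obtain ⟨y, hy⟩ := hx (n * N) (Nat.mul_pos hn hN)
  have hgy : IsOfFinAddOrder (g y) := isOfFinAddOrder_iff_nsmul_eq_zero.mpr ⟨n * N, Nat.mul_pos hn hN, by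
    rw [← map_nsmul, hy]; exact AddMonoidHom.mem_ker.mp (hfg ▸ ⟨x', rfl⟩)⟩
  have hNy : N • y ∈ g.ker := AddMonoidHom.mem_ker.mpr (by rw [map_nsmul]; exact htors _ hgy)
  rw [hfg] at hNy
  obtain ⟨z, hz⟩ := hNy
  exact ⟨z, hf (by rw [map_nsmul, hz, ← mul_smul, hy])⟩

end Groth.Agent.ProCompl8
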