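import Groth.Agent.ProCompl8.Group

set_option autoImplicit false
set_option linter.style.haveILetI false
universe u

namespace Groth.Agent.ProCompl8

open CategoryTheory ProfiniteGrp ProfiniteGrp.ProfiniteCompletion

variable {G H : GrpCat.{u}}

/-- The component of the induced map. -/
theorem map_apply (f : G ⟶ H) (x : completion G) (N : FiniteIndexNormalSubgroup H) :
    ((profiniteCompletion.map f).hom x).val N =
      QuotientGroup.map (N.comap f.hom).toSubgroup N.toSubgroup f.hom (fun _ h => h)
        (x.val (N.comap f.hom)) := by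
  have h1 : Continuous fun x : completion G => ((profiniteCompletion.map f).hom x).val N :=
    ((continuous_apply N).comp continuous_subtype_val).comp (profiniteCompletion.map f).hom.continuous_toFun
  have h2 : Continuous (Y := ((ProfiniteCompletion.diagram H).obj N).toProfinite.toTop) fun x : completion G =>
      QuotientGroup.map (N.comap f.hom).toSubgroup N.toSubgroup f.hom (fun _ h => h) (x.val (N.comap f.hom)) := by
    haveI : DiscreteTopology ((ProfiniteCompletion.diagram G).obj (N.comap f.hom)).toProfinite.toTop := ⟨rfl⟩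
    have hc : Continuous (X := completion G) (Y := ((ProfiniteCompletion.diagram G).obj (N.comap f.hom)).toProfinite.toTop)
        fun x => x.val (N.comap f.hom) := (continuous_apply (N.comap f.hom)).comp continuous_subtype_val
    have hm : Continuous (X := ((ProfiniteCompletion.diagram G).obj (N.comap f.hom)).toProfinite.toTop)
        (Y := ((ProfiniteCompletion.diagram H).obj N).toProfinite.toTop)
        fun z => QuotientGroup.map (N.comap f.hom).toSubgroup N.toSubgroup f.hom (fun _ h => h) z :=
      continuous_of_discreteTopology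
    exact hm.comp hc
  refine congrFun ((denseRange G).equalizer h1 h2 ?_) x
  funext g
  have h3 := ConcreteCategory.congr_hom (lift_eta (f ≫ ProfiniteCompletion.eta H)) g
  simp only [Function.comp_apply]
  have h4 : (profiniteCompletion.map f).hom (etaFn G g) = etaFn H (f.hom g) := h3
  rw [h4]
  rfl

theorem compat (x : completion G) {M N : FiniteIndexNormalSubgroup G} (h : M ≤ N) {a : G}
    (ha : x.val M = (QuotientGroup.mk a : G ⧸ M.toSubgroup)) :
    x.val N = (QuotientGroup.mk a : G ⧸ N.toSubgroup) := by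
  have := x.property (homOfLE h)
  rw [← this, ha]
  rfl

theorem prof_rightExact (A : Type u) [CommGroup A] (A' : Subgroup A) :
    Function.Surjective (profiniteCompletion.map (GrpCat.ofHom (QuotientGroup.mk' A'))).hom ∧
      (profiniteCompletion.map (GrpCat.ofHom (QuotientGroup.mk' A'))).hom.toMonoidHom.ker =
        (profiniteCompletion.map (GrpCat.ofHom A'.subtype)).hom.toMonoidHom.range := by
  let p := GrpCat.ofHom (QuotientGroup.mk' A')
  let i := GrpCat.ofHom A'.subtype
  constructor
  · intro y
    have hcl : IsClosed (Set.range (profiniteCompletion.map p).hom) :=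
      (isCompact_range (profiniteCompletion.map p).hom.continuous_toFun).isClosed
    have hsub : Set.range (etaFn (GrpCat.of (A ⧸ A'))) ⊆ Set.range (profiniteCompletion.map p).hom := by
      rintro _ ⟨b, rfl⟩
      obtain ⟨a, rfl⟩ := QuotientGroup.mk_surjective b
      exact ⟨etaFn _ a, ConcreteCategory.congr_hom (lift_eta (p ≫ ProfiniteCompletion.eta _)) a⟩
    exact closure_minimal hsub hcl (denseRange (GrpCat.of (A ⧸ A')) y)
  refine le_antisymm (fun y hy => ?_) ?_
  · have hy : (profiniteCompletion.map p).hom y = 1 := hy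
    let F : FiniteIndexNormalSubgroup (GrpCat.of A) → Set (completion (GrpCat.of A')) := fun N =>
      {x | ((profiniteCompletion.map i).hom x).val N = y.val N}
    have hcl : ∀ N, IsClosed (F N) := fun N => by
      haveI : DiscreteTopology ((ProfiniteCompletion.diagram (GrpCat.of A)).obj N).toProfinite.toTop := ⟨rfl⟩
      exact (isClosed_discrete {y.val N}).preimage
        (((continuous_apply N).comp continuous_subtype_val).comp (profiniteCompletion.map i).hom.continuous_toFun)
    have hdir : Directed (· ⊇ ·) F := fun M N => by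
      haveI : (M.toSubgroup ⊓ N.toSubgroup).FiniteIndex := inferInstance
      let L : FiniteIndexNormalSubgroup (GrpCat.of A) :=
        FiniteIndexNormalSubgroup.ofSubgroup (M.toSubgroup ⊓ N.toSubgroup)
      have key : ∀ K, L ≤ K → F L ⊆ F K := fun K hK x hx => by
        obtain ⟨a, ha⟩ := QuotientGroup.mk_surjective (y.val L)
        show ((profiniteCompletion.map i).hom x).val K = y.val K
        rw [compat y hK ha.symm, compat ((profiniteCompletion.map i).hom x) hK (hx.trans ha.symm)]
      exact ⟨L, key M inf_le_left, key N inf_le_right⟩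
    have hne : ∀ N, (F N).Nonempty := fun N => by
      haveI : (N.toSubgroup.map (QuotientGroup.mk' A')).FiniteIndex :=
        ⟨fun h => N.isFiniteIndex'.index_ne_zero (Nat.eq_zero_of_zero_dvd
          (h ▸ Subgroup.index_map_dvd N.toSubgroup (QuotientGroup.mk'_surjective A')))⟩
      let M : FiniteIndexNormalSubgroup (GrpCat.of (A ⧸ A')) :=
        FiniteIndexNormalSubgroup.ofSubgroup (N.toSubgroup.map (QuotientGroup.mk' A'))
      obtain ⟨a, ha⟩ := QuotientGroup.mk_surjective (y.val N)
      have hle : N ≤ M.comap p.hom := Subgroup.le_comap_map _ _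
      have h1 : ((profiniteCompletion.map p).hom y).val M = 1 := by rw [hy]; rfl
      rw [map_apply, compat y hle ha.symm] at h1
      obtain ⟨v, hv, hva⟩ : QuotientGroup.mk' A' a ∈ N.toSubgroup.map (QuotientGroup.mk' A') :=
        (QuotientGroup.eq_one_iff (QuotientGroup.mk' A' a)).mp h1
      have hk : v⁻¹ * a ∈ A' := QuotientGroup.eq.mp hva
      refine ⟨etaFn (GrpCat.of A') ⟨v⁻¹ * a, hk⟩, ?_⟩
      show ((profiniteCompletion.map i).hom _).val N = y.val N
      rw [map_apply, ← ha]
      refine (QuotientGroup.eq (s := N.toSubgroup)).mpr ?_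
      show (v⁻¹ * a)⁻¹ * a ∈ N.toSubgroup
      simpa using hv
    haveI : Nonempty (FiniteIndexNormalSubgroup (GrpCat.of A)) := ⟨FiniteIndexNormalSubgroup.ofSubgroup ⊤⟩
    obtain ⟨x, hx⟩ := IsCompact.nonempty_iInter_of_directed_nonempty_isCompact_isClosed F hdir hne
      (fun N => (hcl N).isCompact) hcl
    simp only [Set.mem_iInter] at hx
    exact ⟨x, Subtype.ext (funext hx)⟩
  · rintro _ ⟨x, rfl⟩
    refine Subtype.ext (funext fun M => ?_)
    show ((profiniteCompletion.map p).hom ((profiniteCompletion.map i).hom x)).val M = 1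
    rw [map_apply, map_apply]
    obtain ⟨a, ha⟩ := QuotientGroup.mk_surjective (x.val ((M.comap p.hom).comap i.hom))
    rw [← ha]
    refine (QuotientGroup.eq_one_iff _).mpr ?_
    show QuotientGroup.mk' A' (a : A) ∈ M.toSubgroup
    rw [show QuotientGroup.mk' A' (a : A) = 1 from (QuotientGroup.eq_one_iff _).mpr a.2]
    exact M.toSubgroup.one_mem

theorem prof_map_injective (A : Type u) [CommGroup A] (A' : Subgroup A)
    (hdiv : ∀ x : A ⧸ A', (∀ n : ℕ, 0 < n → ∃ y : A ⧸ A', y ^ n = x) → x = 1)
    (htors : ∃ N : ℕ, 0 < N ∧ ∀ x : A ⧸ A', IsOfFinOrder x → x ^ N = 1) :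
    Function.Injective (profiniteCompletion.map (GrpCat.ofHom A'.subtype)).hom := by
  classical
  refine (injective_iff_map_eq_one (profiniteCompletion.map (GrpCat.ofHom A'.subtype)).hom.toMonoidHom).mpr
    fun x hx => Subtype.ext (funext fun N => ?_)
  have hx : (profiniteCompletion.map (GrpCat.ofHom A'.subtype)).hom x = 1 := hx
  let N₀ : Subgroup A := N.toSubgroup.map A'.subtype
  haveI : N.toSubgroup.FiniteIndex := N.isFiniteIndex'
  haveI : Finite ((GrpCat.of A' : Type u) ⧸ N.toSubgroup) := Subgroup.finite_quotient_of_finiteIndex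
  let φ : (GrpCat.of A' : Type u) ⧸ N.toSubgroup →* A ⧸ N₀ :=
    QuotientGroup.map _ _ A'.subtype (Subgroup.le_comap_map _ _)
  let ψ : A ⧸ N₀ →* A ⧸ A' := QuotientGroup.map _ _ (MonoidHom.id A) (by
    rintro _ ⟨z, -, rfl⟩; exact z.2)
  have hφ : Function.Injective φ := (injective_iff_map_eq_one φ).mpr fun z hz => by
    obtain ⟨a, rfl⟩ := QuotientGroup.mk_surjective z
    obtain ⟨b, hb, hba⟩ := (QuotientGroup.eq_one_iff (a.val : A)).mp hz
    exact (QuotientGroup.eq_one_iff a).mpr (Subtype.ext hba ▸ hb)
  have hex : ψ.ker = φ.range := by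
    ext z
    obtain ⟨a, rfl⟩ := QuotientGroup.mk_surjective z
    constructor
    · intro h
      exact ⟨QuotientGroup.mk (⟨a, (QuotientGroup.eq_one_iff a).mp h⟩ : A'), rfl⟩
    · rintro ⟨w, hw⟩
      obtain ⟨b, rfl⟩ := QuotientGroup.mk_surjective w
      rw [← hw]
      exact (QuotientGroup.eq_one_iff (b.val : A)).mpr b.2
  have hsep : ∀ c : (GrpCat.of A' : Type u) ⧸ N.toSubgroup, c ≠ 1 →
      ∃ B : Subgroup (A ⧸ N₀), B.FiniteIndex ∧ φ c ∉ B := by
    intro c hc
    obtain ⟨B, hB, hcB⟩ := (exists_finiteIndex_iff (Additive.ofMul (φ c))).mpr fun h => hc <| hφ <| by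
      rw [map_one]
      exact congrArg Additive.toMul (divisible_eq_zero φ.toAdditive ψ.toAdditive hφ
        (AddSubgroup.ext fun z => SetLike.ext_iff.mp hex z.toMul)
        (fun w hw => by
          by_contra hne
          obtain ⟨n, hn⟩ : ∃ n : ℕ, n = Nat.card (Additive ((GrpCat.of A' : Type u) ⧸ N.toSubgroup)) := ⟨_, rfl⟩
          obtain ⟨v, hv⟩ := hw n (hn ▸ Nat.card_pos)
          exact hne (by rw [← hv, hn]; exact card_nsmul_eq_zero'))
        (fun w hw => congrArg Additive.ofMul (hdiv w.toMul fun n hn => by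
          obtain ⟨v, hv⟩ := hw n hn
          exact ⟨v.toMul, congrArg Additive.toMul hv⟩))
        (by
          obtain ⟨m, hm, hm'⟩ := htors
          exact ⟨m, hm, fun w hw => congrArg Additive.ofMul (hm' w.toMul (isOfFinAddOrder_ofMul_iff.mp hw))⟩)
        _ h)
    exact ⟨AddSubgroup.toSubgroup' B, ⟨hB.index_ne_zero⟩, hcB⟩
  by_contra hne
  obtain ⟨a, ha⟩ := QuotientGroup.mk_surjective (x.val N)
  obtain ⟨B, hB, hcB⟩ := hsep (QuotientGroup.mk a) (fun h => hne (ha.symm.trans h))
  haveI : (B.comap (QuotientGroup.mk' N₀)).FiniteIndex :=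
    ⟨by rw [Subgroup.index_comap_of_surjective _ (QuotientGroup.mk'_surjective N₀)]; exact hB.index_ne_zero⟩
  let M : FiniteIndexNormalSubgroup (GrpCat.of A) := FiniteIndexNormalSubgroup.ofSubgroup (B.comap (QuotientGroup.mk' N₀))
  have h1 : ((profiniteCompletion.map (GrpCat.ofHom A'.subtype)).hom x).val M = 1 := by rw [hx]; rfl
  have hle : N ≤ M.comap (GrpCat.ofHom A'.subtype).hom := fun z hz => by
    show (QuotientGroup.mk (z.val : A) : A ⧸ N₀) ∈ B
    rw [(QuotientGroup.eq_one_iff (N := N₀) (z.val : A)).mpr (Subgroup.mem_map_of_mem A'.subtype hz)]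
    exact B.one_mem
  rw [map_apply, compat x hle ha.symm] at h1
  exact hcB ((QuotientGroup.eq_one_iff (N := M.toSubgroup) (a.val : A)).mp h1)

end Groth.Agent.ProCompl8
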