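import Groth.Agent.ProCompl8.Group
import Groth.Prelude.Def_W4c61motalbdualityCompl

set_option autoImplicit false
set_option linter.style.haveILetI false
universe u v w

namespace Groth.Agent.ProCompl8

open Topology

variable {B : Type u} [AddCommGroup B] [TopologicalSpace B] [IsTopologicalAddGroup B]

theorem exists_compactOpen_addSubgroup [T2Space B] [LocallyCompactSpace B] [TotallyDisconnectedSpace B]
    {O : Set B} (hO : IsOpen O) (h0 : (0 : B) ∈ O) :
    ∃ U : AddSubgroup B, IsOpen (U : Set B) ∧ IsCompact (U : Set B) ∧ (U : Set B) ⊆ O := by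
  obtain ⟨s, hs, hs0, hsO⟩ := exists_compact_subset hO h0
  obtain ⟨W, hW, hW0, hWs⟩ := loc_compact_Haus_tot_disc_of_zero_dim.exists_subset_of_mem_open hs0 isOpen_interior
  have hWc : IsCompact W := hs.of_isClosed_subset hW.1 (hWs.trans interior_subset)
  obtain ⟨V, hV, hWV⟩ := compact_open_separated_add_right hWc hW.2 subset_rfl
  let T : Set B := interior V ∩ -interior V
  have hT : IsOpen T := isOpen_interior.inter isOpen_interior.neg
  have hT0 : (0 : B) ∈ T := ⟨mem_interior_iff_mem_nhds.mpr hV, by simpa using mem_interior_iff_mem_nhds.mpr hV⟩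
  let H := AddSubgroup.closure T
  have hmem : ∀ x ∈ H, ∀ w, w + x ∈ W ↔ w ∈ W := by
    intro x hx
    induction hx using AddSubgroup.closure_induction with
    | mem t ht =>
      refine fun w => ⟨fun hw => ?_, fun hw => hWV ⟨w, hw, t, interior_subset ht.1, rfl⟩⟩
      have := hWV ⟨w + t, hw, -t, interior_subset ht.2, rfl⟩
      simpa using this
    | zero => simp
    | add a b _ _ ha hb => intro w; rw [← add_assoc, hb, ha]
    | neg a _ ha => intro w; rw [← ha (w + -a)]; simp
  have hHo : IsOpen (H : Set B) :=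
    AddSubgroup.isOpen_of_mem_nhds H (g := 0) (Filter.mem_of_superset (hT.mem_nhds hT0) AddSubgroup.subset_closure)
  have hHW : (H : Set B) ⊆ W := fun x hx => by simpa using (hmem x hx 0).mpr hW0
  exact ⟨H, hHo, hWc.of_isClosed_subset (AddSubgroup.isClosed_of_isOpen H hHo) hHW,
    hHW.trans (hWs.trans (interior_subset.trans hsO))⟩

/-- An extension of a rational character. -/
theorem exists_extension {A : Type u} {C : Type v} [AddCommGroup A] [AddCommGroup C] (i : A →+ C)
    (hi : Function.Injective i) (χ : A →+ ℚ ⧸ AddSubgroup.zmultiples (1 : ℚ)) :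
    ∃ ψ : C →+ ℚ ⧸ AddSubgroup.zmultiples (1 : ℚ), ψ.comp i = χ :=
  CharacterModule.dual_surjective_of_injective i.toIntLinearMap hi χ

theorem isOpen_of_le {U V : AddSubgroup B} (hU : IsOpen (U : Set B)) (h : U ≤ V) : IsOpen (V : Set B) :=
  AddSubgroup.isOpen_mono h hU

theorem fg_quotient (hcg : ∃ K : Set B, IsCompact K ∧ AddSubgroup.closure K = ⊤) {U : AddSubgroup B}
    (hU : IsOpen (U : Set B)) : AddGroup.FG (B ⧸ U) := by
  obtain ⟨K, hK, hKt⟩ := hcg
  haveI : DiscreteTopology (B ⧸ U) := QuotientAddGroup.discreteTopology hU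
  have hfin : ((QuotientAddGroup.mk' U) '' K).Finite := (hK.image continuous_quotient_mk').finite_of_discrete
  refine AddGroup.fg_iff.mpr ⟨_, ?_, hfin⟩
  rw [← AddMonoidHom.map_closure, hKt, AddSubgroup.map_top_of_surjective _ QuotientAddGroup.mk_surjective]

/-- S19170 -/
theorem finiteIndex_ker (hcg : ∃ K : Set B, IsCompact K ∧ AddSubgroup.closure K = ⊤)
    (χ : B →+ ℚ ⧸ AddSubgroup.zmultiples (1 : ℚ)) (hχ : IsOpen (χ.ker : Set B)) : χ.ker.FiniteIndex := by
  haveI := fg_quotient hcg hχ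
  haveI : AddGroup.FG (B ⧸ χ.ker) := fg_quotient hcg hχ
  have htors : IsAddTorsion (B ⧸ χ.ker) := by
    intro x
    obtain ⟨b, rfl⟩ := QuotientAddGroup.mk_surjective x
    obtain ⟨q, hq⟩ := QuotientAddGroup.mk_surjective (χ b)
    refine isOfFinAddOrder_iff_nsmul_eq_zero.mpr ⟨q.den, q.den_pos, ?_⟩
    rw [← QuotientAddGroup.mk_nsmul, QuotientAddGroup.eq_zero_iff, AddMonoidHom.mem_ker, map_nsmul, ← hq,
      ← QuotientAddGroup.mk_nsmul, QuotientAddGroup.eq_zero_iff]
    exact ⟨q.num, by simp [nsmul_eq_mul, Rat.den_mul_eq_num]⟩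
  haveI : Finite (B ⧸ χ.ker) := AddCommGroup.finite_of_fg_isAddTorsion _ htors
  exact AddSubgroup.finiteIndex_of_finite_quotient

theorem not_divisible_of_fg {C : Type u} [AddCommGroup C] [AddGroup.FG C] {c : C} (hc : c ≠ 0) :
    ¬ (∀ n : ℕ, 0 < n → ∃ b : C, n • b = c) := by
  classical
  intro hdiv
  obtain ⟨r, ι, hι, p, hp, e, ⟨f⟩⟩ := AddCommGroup.equiv_free_prod_directSum_zmod C
  refine hc (f.injective ?_)
  rw [map_zero]
  refine Prod.ext (Finsupp.ext fun i => ?_) (DFinsupp.ext fun i => ?_)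
  · by_contra hne
    obtain ⟨b, hb⟩ := hdiv ((f c).1 i).natAbs.succ (Nat.succ_pos _)
    have h1 := congrArg (fun z => (f z).1 i) hb
    simp only [map_nsmul, Prod.smul_fst, Finsupp.coe_smul, Pi.smul_apply, nsmul_eq_mul] at h1
    have h2 := congrArg Int.natAbs h1
    rw [Int.natAbs_mul, Int.natAbs_natCast] at h2
    rcases Nat.eq_zero_or_pos ((f b).1 i).natAbs with h | h
    · rw [h, mul_zero] at h2; exact hne (Int.natAbs_eq_zero.mp h2.symm)
    · have := Nat.le_mul_of_pos_right (((f c).1 i).natAbs.succ) h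
      omega
  · obtain ⟨b, hb⟩ := hdiv (p i ^ e i) (pow_pos (hp i).pos _)
    have h1 := congrArg (fun z => (f z).2 i) hb
    simp only [map_nsmul, Prod.smul_snd] at h1
    rw [← h1]
    show (p i ^ e i) • ((f b).2 i) = 0
    rw [nsmul_eq_mul, ZMod.natCast_self, zero_mul]

/-- S19169 -/
theorem exists_openFI_not_mem [T2Space B] [LocallyCompactSpace B] [TotallyDisconnectedSpace B]
    (hcg : ∃ K : Set B, IsCompact K ∧ AddSubgroup.closure K = ⊤) (b : B) (hb : b ≠ 0) :
    ∃ B' : AddSubgroup B, IsOpen (B' : Set B) ∧ B'.FiniteIndex ∧ b ∉ B' := by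
  obtain ⟨U, hUo, -, hUb⟩ := exists_compactOpen_addSubgroup (O := {b}ᶜ) isOpen_compl_singleton (by simpa using hb.symm)
  haveI := fg_quotient hcg hUo
  have hb' : (b : B ⧸ U) ≠ 0 := fun h => hUb ((QuotientAddGroup.eq_zero_iff b).mp h) rfl
  obtain ⟨D, hD, hbD⟩ := (exists_finiteIndex_iff _).mpr (not_divisible_of_fg hb')
  refine ⟨D.comap (QuotientAddGroup.mk' U), isOpen_of_le hUo (fun x hx => ?_), ⟨?_⟩, hbD⟩
  · show (x : B ⧸ U) ∈ D
    rw [(QuotientAddGroup.eq_zero_iff x).mpr hx]; exact D.zero_mem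
  · rw [AddSubgroup.index_comap_of_surjective _ QuotientAddGroup.mk_surjective]; exact hD.index_ne_zero

/-- Extension of a character with open kernel along a strict injection. -/
theorem exists_open_extension {A : Type v} [AddCommGroup A] [TopologicalSpace A]
    [T2Space B] [LocallyCompactSpace B] [TotallyDisconnectedSpace B]
    (i : A →+ B) (_hinj : Function.Injective i) (hind : IsInducing i)
    (χ : A →+ ℚ ⧸ AddSubgroup.zmultiples (1 : ℚ)) (hχ : IsOpen (χ.ker : Set A)) :
    ∃ ψ : B →+ ℚ ⧸ AddSubgroup.zmultiples (1 : ℚ), IsOpen (ψ.ker : Set B) ∧ ψ.comp i = χ := by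
  obtain ⟨O, hO, hOA⟩ := hind.isOpen_iff.mp hχ
  have hO0 : (0 : B) ∈ O := by
    have : (0 : A) ∈ i ⁻¹' O := hOA ▸ χ.ker.zero_mem
    simpa using this
  obtain ⟨U, hUo, -, hUO⟩ := exists_compactOpen_addSubgroup hO hO0
  have hle : U.comap i ≤ χ.ker := fun x hx => hOA.le (hUO hx)
  let j : A ⧸ U.comap i →+ B ⧸ U := QuotientAddGroup.map _ _ i le_rfl
  have hj : Function.Injective j := (injective_iff_map_eq_zero j).mpr fun x hx => by
    obtain ⟨a, rfl⟩ := QuotientAddGroup.mk_surjective x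
    exact (QuotientAddGroup.eq_zero_iff a).mpr ((QuotientAddGroup.eq_zero_iff (i a)).mp hx)
  obtain ⟨ψ, hψ⟩ := exists_extension j hj (QuotientAddGroup.lift _ χ hle)
  refine ⟨ψ.comp (QuotientAddGroup.mk' U), isOpen_of_le hUo (fun x hx => ?_), ?_⟩
  · show ψ (x : B ⧸ U) = 0
    rw [(QuotientAddGroup.eq_zero_iff x).mpr hx, map_zero]
  · ext a
    exact DFunLike.congr_fun hψ (a : A ⧸ U.comap i)

/-- S13365 -/
theorem profinite_quotient [CompactSpace B] [T2Space B] [TotallyDisconnectedSpace B]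
    (H : AddSubgroup B) (hH : IsCompact (H : Set B)) :
    CompactSpace (B ⧸ H) ∧ T2Space (B ⧸ H) ∧ TotallyDisconnectedSpace (B ⧸ H) := by
  haveI hHc : IsClosed (H : Set B) := hH.isClosed
  refine ⟨inferInstance, inferInstance, ?_⟩
  haveI : T2Space (B ⧸ H) := inferInstance
  refine totallyDisconnectedSpace_iff_connectedComponent_singleton.mpr fun x => ?_
  refine Set.eq_singleton_iff_unique_mem.mpr ⟨mem_connectedComponent, fun y hy => ?_⟩
  by_contra hne
  obtain ⟨a, rfl⟩ := QuotientAddGroup.mk_surjective x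
  obtain ⟨c, rfl⟩ := QuotientAddGroup.mk_surjective y
  have hca : c - a ∉ H := fun h => hne (by rw [QuotientAddGroup.eq]; simpa [sub_eq_neg_add] using H.neg_mem h)
  obtain ⟨U, hUo, -, hU⟩ := exists_compactOpen_addSubgroup (O := (fun z => (c - a) + z) ⁻¹' (H : Set B)ᶜ)
    (hHc.isOpen_compl.preimage (continuous_const.add continuous_id)) (by simpa using hca)
  let S : AddSubgroup (B ⧸ H) := U.map (QuotientAddGroup.mk' H)
  have hSo : IsOpen (S : Set (B ⧸ H)) := QuotientAddGroup.isOpenMap_coe _ hUo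
  have hclopen : IsClopen ((fun z => z - (a : B ⧸ H)) ⁻¹' (S : Set (B ⧸ H))) :=
    IsClopen.preimage ⟨AddSubgroup.isClosed_of_isOpen S hSo, hSo⟩ (continuous_id.sub continuous_const)
  have hmem : (c : B ⧸ H) - (a : B ⧸ H) ∈ S :=
    hclopen.connectedComponent_subset (by simp) hy
  obtain ⟨w, hw, hwe⟩ := hmem
  refine hU (show -w ∈ U from U.neg_mem hw) ?_
  show c - a + -w ∈ H
  rw [QuotientAddGroup.mk'_apply, ← QuotientAddGroup.mk_sub, QuotientAddGroup.eq] at hwe
  simpa [add_comm, sub_eq_add_neg, add_assoc, add_left_comm] using hwe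

open W4c61motalbduality

instance discrete_quot {A : Type u} [AddCommGroup A] [TopologicalSpace A] [IsTopologicalAddGroup A] (U : OpenFI A) :
    DiscreteTopology (A ⧸ U.toAddSubgroup) := QuotientAddGroup.discreteTopology U.isOpen'

instance finite_quot {A : Type u} [AddCommGroup A] [TopologicalSpace A] (U : OpenFI A) :
    Finite (A ⧸ U.toAddSubgroup) := haveI := U.finiteIndex'; AddSubgroup.finite_quotient_of_finiteIndex

theorem isCompact_compl (A : Type u) [AddCommGroup A] [TopologicalSpace A] [IsTopologicalAddGroup A] :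
    IsCompact (FICompl A : Set ((U : OpenFI A) → A ⧸ U.toAddSubgroup)) := by
  refine IsClosed.isCompact ?_
  have : (FICompl A : Set ((U : OpenFI A) → A ⧸ U.toAddSubgroup)) =
      ⋂ (U : OpenFI A) (V : OpenFI A) (h : U.toAddSubgroup ≤ V.toAddSubgroup),
        {x | QuotientAddGroup.map U.toAddSubgroup V.toAddSubgroup (AddMonoidHom.id A) h (x U) = x V} := by
    ext x; simp [FICompl]
  rw [this]
  exact isClosed_iInter fun U => isClosed_iInter fun V => isClosed_iInter fun h =>
    isClosed_eq ((continuous_of_discreteTopology).comp (continuous_apply U)) (continuous_apply V)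

variable {A : Type u} [AddCommGroup A] [TopologicalSpace A] [IsTopologicalAddGroup A]

/-- Open finite-index subgroups are closed under intersections. -/
def inf (U V : OpenFI A) : OpenFI A :=
  ⟨U.toAddSubgroup ⊓ V.toAddSubgroup, U.isOpen'.inter V.isOpen',
    haveI := U.finiteIndex'; haveI := V.finiteIndex'; inferInstance⟩

def top : OpenFI A := ⟨⊤, isOpen_univ, inferInstance⟩

/-- Compactness: one element realizing prescribed residues. -/
theorem exists_mem {C : Type v} [AddCommGroup C] [TopologicalSpace C] [IsTopologicalAddGroup C]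
    (f : A →+ C) (hf : Continuous f) (y : FICompl C)
    (h : ∀ V : OpenFI C, ∃ a : A, (y : (V : OpenFI C) → C ⧸ V.toAddSubgroup) V = (f a : C ⧸ V.toAddSubgroup)) :
    y ∈ (FICompl.map f hf).range := by
  classical
  let F : OpenFI C → Set ((U : OpenFI A) → A ⧸ U.toAddSubgroup) := fun V =>
    (FICompl A : Set _) ∩ {x | QuotientAddGroup.map (V.comap f hf).toAddSubgroup V.toAddSubgroup f (V.comap_le f)
      (x (V.comap f hf)) = (y : (V : OpenFI C) → C ⧸ V.toAddSubgroup) V}
  have hcl : ∀ V, IsClosed (F V) := fun V => (isCompact_compl A).isClosed.inter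
    (isClosed_eq ((continuous_of_discreteTopology).comp (continuous_apply _)) continuous_const)
  have hdir : Directed (· ⊇ ·) F := by
    intro V W
    refine ⟨inf V W, ?_, ?_⟩ <;>
    · rintro x ⟨hx, he⟩
      refine ⟨hx, ?_⟩
      simp only [Set.mem_ofPred_eq] at he ⊢
      first
      | rw [← y.2 (inf V W) V inf_le_left, ← he,
          ← hx ((inf V W).comap f hf) (V.comap f hf) (OpenFI.comap_mono f hf inf_le_left)]
        obtain ⟨a, ha⟩ := QuotientAddGroup.mk_surjective (x ((inf V W).comap f hf))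
        rw [← ha]; rfl
      | rw [← y.2 (inf V W) W inf_le_right, ← he,
          ← hx ((inf V W).comap f hf) (W.comap f hf) (OpenFI.comap_mono f hf inf_le_right)]
        obtain ⟨a, ha⟩ := QuotientAddGroup.mk_surjective (x ((inf V W).comap f hf))
        rw [← ha]; rfl
  have hne : ∀ V, (F V).Nonempty := by
    intro V
    obtain ⟨a, ha⟩ := h V
    exact ⟨_, (toFICompl A a).2, ha.symm⟩
  obtain ⟨x, hx⟩ := IsCompact.nonempty_iInter_of_directed_nonempty_isCompact_isClosed (ι := OpenFI C)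
    (hι := ⟨top⟩) F hdir hne (fun V => (isCompact_compl A).of_isClosed_subset (hcl V) Set.inter_subset_left) hcl
  simp only [Set.mem_iInter] at hx
  exact ⟨⟨x, (hx top).1⟩, Subtype.ext (funext fun V => (hx V).2)⟩

/-- S19172 -/
theorem rightExact {B : Type v} {C : Type w} [AddCommGroup B] [TopologicalSpace B] [IsTopologicalAddGroup B]
    [AddCommGroup C] [TopologicalSpace C] [IsTopologicalAddGroup C]
    (i : A →+ B) (hi : Continuous i) (p : B →+ C) (hp : Continuous p)
    (hpo : IsOpenMap p) (hps : Function.Surjective p) (hex : p.ker = i.range) :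
    Function.Surjective (FICompl.map p hp) ∧ (FICompl.map p hp).ker = (FICompl.map i hi).range := by
  refine ⟨fun y => exists_mem p hp y fun V => ?_, le_antisymm (fun y hy => exists_mem i hi y fun V => ?_) ?_⟩
  · obtain ⟨c, hc⟩ := QuotientAddGroup.mk_surjective ((y : (V : OpenFI C) → C ⧸ V.toAddSubgroup) V)
    obtain ⟨b, rfl⟩ := hps c
    exact ⟨b, hc.symm⟩
  · let W : OpenFI C := ⟨V.toAddSubgroup.map p, hpo _ V.isOpen',
      ⟨fun h => V.finiteIndex'.index_ne_zero (Nat.eq_zero_of_zero_dvd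
        (h ▸ AddSubgroup.index_map_dvd V.toAddSubgroup hps))⟩⟩
    obtain ⟨b, hb⟩ := QuotientAddGroup.mk_surjective ((y : (V : OpenFI B) → B ⧸ V.toAddSubgroup) V)
    have h1 : QuotientAddGroup.map (W.comap p hp).toAddSubgroup W.toAddSubgroup p (W.comap_le p)
        ((y : (V : OpenFI B) → B ⧸ V.toAddSubgroup) (W.comap p hp)) = 0 :=
      congrFun (congrArg Subtype.val hy) W
    rw [← y.2 V (W.comap p hp) (AddSubgroup.le_comap_map p _), ← hb] at h1
    obtain ⟨v, hv, hvb⟩ : p b ∈ V.toAddSubgroup.map p := (QuotientAddGroup.eq_zero_iff (p b)).mp h1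
    have hk : b - v ∈ i.range := by rw [← hex, AddMonoidHom.mem_ker, map_sub, hvb, sub_self]
    obtain ⟨a, ha⟩ := hk
    refine ⟨a, ?_⟩
    rw [← hb, ha, QuotientAddGroup.eq]
    rw [show -b + (b - v) = -v by abel]
    exact V.toAddSubgroup.neg_mem hv
  · rintro _ ⟨x, rfl⟩
    refine Subtype.ext (funext fun V => ?_)
    show QuotientAddGroup.map (V.comap p hp).toAddSubgroup V.toAddSubgroup p (V.comap_le p)
      (QuotientAddGroup.map ((V.comap p hp).comap i hi).toAddSubgroup (V.comap p hp).toAddSubgroup i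
        ((V.comap p hp).comap_le i) ((x : (U : OpenFI A) → A ⧸ U.toAddSubgroup) ((V.comap p hp).comap i hi))) = 0
    obtain ⟨a, ha⟩ := QuotientAddGroup.mk_surjective ((x : (U : OpenFI A) → A ⧸ U.toAddSubgroup) ((V.comap p hp).comap i hi))
    rw [← ha]
    refine (QuotientAddGroup.eq_zero_iff _).mpr ?_
    have h0 : p (i a) = 0 := AddMonoidHom.mem_ker.mp (hex ▸ ⟨a, rfl⟩)
    exact h0 ▸ V.toAddSubgroup.zero_mem

/-- S19173 -/
theorem map_injective {B : Type v} [AddCommGroup B] [TopologicalSpace B] [IsTopologicalAddGroup B]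
    [T2Space B] [LocallyCompactSpace B] [TotallyDisconnectedSpace B]
    (hcg : ∃ K : Set B, IsCompact K ∧ AddSubgroup.closure K = ⊤)
    (i : A →+ B) (hi : Continuous i) (hinj : Function.Injective i) (hind : IsInducing i) :
    Function.Injective (FICompl.map i hi) := by
  refine (injective_iff_map_eq_zero _).mpr fun x hx => Subtype.ext (funext fun U => ?_)
  obtain ⟨a, ha⟩ := QuotientAddGroup.mk_surjective ((x : (U : OpenFI A) → A ⧸ U.toAddSubgroup) U)
  show (x : (U : OpenFI A) → A ⧸ U.toAddSubgroup) U = 0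
  refine CharacterModule.eq_zero_of_character_apply fun c => ?_
  let χ : A →+ ℚ ⧸ AddSubgroup.zmultiples (1 : ℚ) :=
    (c : A ⧸ U.toAddSubgroup →+ ℚ ⧸ AddSubgroup.zmultiples (1 : ℚ)).comp (QuotientAddGroup.mk' U.toAddSubgroup)
  have hUχ : U.toAddSubgroup ≤ χ.ker := fun z hz => by
    show c (z : A ⧸ U.toAddSubgroup) = 0
    rw [(QuotientAddGroup.eq_zero_iff z).mpr hz, map_zero]
  have hχ : IsOpen (χ.ker : Set A) := isOpen_of_le U.isOpen' hUχ
  obtain ⟨ψ, hψo, hψ⟩ := exists_open_extension i hinj hind χ hχ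
  let V : OpenFI B := ⟨ψ.ker, hψo, finiteIndex_ker hcg ψ hψo⟩
  have hVU : (V.comap i hi).toAddSubgroup = χ.ker := by
    ext z
    show ψ (i z) = 0 ↔ χ z = 0
    rw [← hψ]; rfl
  have h1 : QuotientAddGroup.map (V.comap i hi).toAddSubgroup V.toAddSubgroup i (V.comap_le i)
      ((x : (U : OpenFI A) → A ⧸ U.toAddSubgroup) (V.comap i hi)) = 0 := congrFun (congrArg Subtype.val hx) V
  rw [← x.2 U (V.comap i hi) (hUχ.trans hVU.ge), ← ha] at h1
  have h2 : χ a = 0 := by
    rw [← hψ]
    exact (QuotientAddGroup.eq_zero_iff (i a)).mp h1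
  rw [← ha]
  exact h2

end Groth.Agent.ProCompl8
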